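import Cfsg.Agent.H525.E8L.Iface

/-!
# Involutions in the centre of the centralisers of elements of order 40 of `E₈(3)` (S5921)
-/

set_option autoImplicit false
set_option linter.unusedSectionVars false
set_option maxRecDepth 100000

namespace Cfsg.Agent.H72.E8T

open Cfsg.Agent.H942.CB

section Gen

open CoxeterSystem Cfsg Cfsg.Lie Cfsg.Lie.ChevalleyDatum
open Cfsg.Agent.ChevalleyStructure Cfsg.Agent.ChevalleyStructure.Elts Cfsg.Agent.ChevalleyStructure.CoxeterGeom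
  Cfsg.Agent.ChevalleyStructure.CoxeterGeomTypes Cfsg.Agent.ChevalleyStructure.NPerm
open Cfsg.Agent.Tits.Roots Cfsg.Agent.Tits.Core Cfsg.Agent.Nodes Cfsg.Agent.Nodes.Reps Cfsg.Agent.Nodes.BNOf
  Cfsg.Agent.Nodes.RGDChev Cfsg.Agent.Nodes.Bruhat Cfsg.Agent.Nodes.SubComb Cfsg.Agent.Nodes.Coroot
  Cfsg.Agent.Nodes.NormalForm
open Cfsg.Agent.KFacts.RgdField Cfsg.Agent.KFacts.RgdChevCoord Cfsg.Agent.BpExc.TorCent Cfsg.Agent.BpExc.TorChev
open Cfsg.Agent.GpExc.Field Cfsg.Agent.BpExc.Tow Cfsg.Agent.BpExc.TowChev Cfsg.Agent.BpExc.Fr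
  Cfsg.Agent.BpExc.LangFr Cfsg.Agent.LangThm Cfsg.Agent.BpExc Cfsg.Agent.H129.TorusChar Cfsg.Agent.H129.TorusMain
open Cfsg.Agent.H720.TorusReal Cfsg.Agent.Nodes.Unique Cfsg.Agent.H897.T5Cent
open Cfsg.Agent.H897.T5Lat (Frm bf bf_apply)
open Cfsg.Agent.BpExc.FamUntw Cfsg.Agent.BpExc.FamInst Cfsg.Agent.BpExc.FamField

universe u v

variable {D : ChevalleyDatum} {l : ℕ} {M : CoxeterMatrix (Fin l)} (hp : IsType D l M) {k : Type u} [Field k]
  [IsAlgClosed k] {W : Type v} [Group W] [Finite W] (cs : CoxeterSystem M W) (hk : LocFin k) {p : ℕ} [Fact p.Prime]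
  [CharP k p] (Fm : Frm cs hp.isCartan (bf (cartanOf D l)))
variable {F0 : Type u} [Field F0] [Finite F0] (f : F0 →+* k) {n : ℕ} (hn : Nat.card F0 = p ^ n)
  {B : Fin l → Fin l → ℤ} (hB : InvC D l 1 B)

include hk Fm hn hB in
/-- Elements of the torus with compatible characters are conjugated to rational elements simultaneously. -/
theorem exists_conj (hn0 : 0 < n) {N : ℕ} (hN0 : N ≠ 0) (hNp : N.Coprime p) {x : ↥(D.group F0)} (hx : x ^ N = 1)
    {z t : ↥(D.group k)} (hz : z⁻¹ * emb hp.inList f x * z = t) (ht : t ∈ TT D k) (w : W)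
    (hw : ∀ a, cX hp t (rep cs hp.isCartan w a) = cX hp t a ^ p ^ n) {s : ↥(D.group k)} (hs : s ∈ TT D k)
    (hws : ∀ a, cX hp s (rep cs hp.isCartan w a) = cX hp s a ^ p ^ n) :
    ∃ (z1 : ↥(D.group k)) (g : ↥(D.group F0)), emb hp.inList f x = z1 * t * z1⁻¹ ∧
      emb hp.inList f g = z1 * s * z1⁻¹ := by
  classical
  have hN : NSys M (TT D k) (nc hp k) := nsysT hp hk p
  set σ := phi D k p n with hσ
  have hσF : IsFrob p n σ := phi_isFrob p n
  have F : Fr cs hp.isCartan (TT D k) (XX D l k) σ (AddEquiv.refl _) := phi_fr hp cs p hk n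
  have hσx : σ (emb hp.inList f x) = emb hp.inList f x := Cfsg.Agent.H378.TorFin.phi_emb' hp f p hn x
  obtain ⟨n1, hn1⟩ := exists_rp cs hN w
  have hnt : n1 * σ t * n1⁻¹ = t := (tau_iff hp cs hk hσF F hn1 ht).2 hw
  have hns : n1 * σ s * n1⁻¹ = s := (tau_iff hp cs hk hσF F hn1 hs).2 hws
  have htN : t ^ N = 1 := by
    rw [← hz]
    have h1 : (z⁻¹ * emb hp.inList f x * z) ^ N = z⁻¹ * (emb hp.inList f x) ^ N * z := by
      have := conj_pow (i := N) (a := z⁻¹) (b := emb hp.inList f x)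
      rwa [inv_inv] at this
    rw [h1, ← map_pow, hx, map_one, mul_one, inv_mul_cancel]
  have hC := con_of_frm' (p := p) hp cs hk Fm hB (N := N) (Nat.coprime_one_left N) hN0 hNp
  obtain ⟨z1, hz1, hz2⟩ := star hp cs hk p hC hn0 hσF F hB one_ne_zero hn1 hσx hz ht htN hnt
  have h3 : σ z1 = z1 * n1 := by rw [← hz1]; group
  have h4 : σ (z1 * s * z1⁻¹) = z1 * s * z1⁻¹ := by
    rw [map_mul, map_mul, map_inv, h3]
    calc z1 * n1 * σ s * (z1 * n1)⁻¹ = z1 * (n1 * σ s * n1⁻¹) * z1⁻¹ := by group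
      _ = _ := by rw [hns]
  obtain ⟨g, hg⟩ := Cfsg.Agent.H378.TorFin.fix_mem hp f p hn hB h4
  exact ⟨z1, g, by rw [← hz2]; group, hg⟩

end Gen

/-! ### the action over the algebraic closure -/

section E8

open CoxeterSystem Matrix
open Cfsg Cfsg.Lie Cfsg.Lie.ChevalleyDatum
open Cfsg.Agent.ChevalleyStructure Cfsg.Agent.ChevalleyStructure.Elts Cfsg.Agent.ChevalleyStructure.CoxeterGeom
  Cfsg.Agent.ChevalleyStructure.CoxeterGeomTypes Cfsg.Agent.ChevalleyStructure.NPerm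
  Cfsg.Agent.ChevalleyStructure.RootVec Cfsg.Agent.ChevalleyStructure.RootVecTab
open Cfsg.Agent.Tits.Roots Cfsg.Agent.Tits.Core Cfsg.Agent.Nodes Cfsg.Agent.Nodes.Reps Cfsg.Agent.Nodes.BNOf
  Cfsg.Agent.Nodes.RGDChev Cfsg.Agent.Nodes.NormalForm
open Cfsg.Agent.GpExc.Field Cfsg.Agent.BpExc.TowChev Cfsg.Agent.H129.TorusChar Cfsg.Agent.KFacts.RgdChevCoord
open Cfsg.Agent.H942.E8Tab Cfsg.Agent.H942.E8Alc
open Cfsg.Agent.H944.Tab Cfsg.Agent.H944.Kac
open Cfsg.Agent.H525.E8L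

/-- the action of `E₈(K)` on its natural module -/
noncomputable def actK (g : GK) (v : chevE8.Idx → KK) : chevE8.Idx → KK :=
  ((g : GL chevE8.Idx KK) : Matrix chevE8.Idx chevE8.Idx KK) *ᵥ v

theorem actK_mul (g g' : GK) (v : chevE8.Idx → KK) : actK (g * g') v = actK g (actK g' v) := by
  unfold actK
  rw [Subgroup.coe_mul, Units.val_mul, Matrix.mulVec_mulVec]

theorem actK_one (v : chevE8.Idx → KK) : actK 1 v = v := by
  unfold actK
  rw [Subgroup.coe_one, Units.val_one, Matrix.one_mulVec]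

theorem actK_inv (g : GK) (v : chevE8.Idx → KK) : actK g (actK g⁻¹ v) = v := by
  rw [← actK_mul, mul_inv_cancel, actK_one]

theorem actK_inv' (g : GK) (v : chevE8.Idx → KK) : actK g⁻¹ (actK g v) = v := by
  rw [← actK_mul, inv_mul_cancel, actK_one]

/-- extension of scalars -/
noncomputable def ext (v : chevE8.Idx → ZMod 3) : chevE8.Idx → KK := fun i => algebraMap (ZMod 3) KK (v i)

theorem ext_injective : Function.Injective ext := by
  intro a b h
  funext i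
  exact (algebraMap (ZMod 3) KK).injective (congrFun h i)

theorem actK_ext (g : G8) (v : chevE8.Idx → ZMod 3) : actK (eK g) (ext v) = ext (act g v) := by
  funext i
  unfold actK ext Cfsg.Agent.H525.E8L.act
  rw [RingHom.map_mulVec]
  rfl

/-- the action of the torus -/
theorem actK_tor {t : GK} (ht : t ∈ TT chevE8 KK) (v : chevE8.Idx → KK) (i : chevE8.Idx) :
    actK t v i = Sum.elim (fun _ => (1 : KK)) (fun s : Fin chevE8.nroots => cX e8T t (vec chevE8 8 s)) i * v i := by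
  unfold actK
  rw [TT_diag' e8T ht, Matrix.mulVec_diagonal]

/-- fixed vectors of `t` are fixed by `s` -/
theorem tor_fix {s t : GK} (hs : s ∈ TT chevE8 KK) (ht : t ∈ TT chevE8 KK)
    (h : ∀ i : Fin chevE8.nroots, cX e8T t (vec chevE8 8 i) = 1 → cX e8T s (vec chevE8 8 i) = 1)
    {v : chevE8.Idx → KK} (hv : actK t v = v) : actK s v = v := by
  funext i
  have h1 := congrFun hv i
  rw [actK_tor ht] at h1
  rw [actK_tor hs]
  rcases i with i | i
  · simp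
  · simp only [Sum.elim_inr] at h1 ⊢
    by_cases h2 : v (Sum.inr i) = 0
    · rw [h2, mul_zero]
    · have h3 : cX e8T t (vec chevE8 8 i) = 1 := by
        refine mul_right_cancel₀ h2 ?_
        rw [h1, one_mul]
      rw [h i h3, one_mul]

/-- simultaneous conjugates: fixed vectors -/
theorem fix_of {x g : G8} {z s t : GK} (hs : s ∈ TT chevE8 KK) (ht : t ∈ TT chevE8 KK)
    (hx : eK x = z * t * z⁻¹) (hg : eK g = z * s * z⁻¹)
    (h : ∀ i : Fin chevE8.nroots, cX e8T t (vec chevE8 8 i) = 1 → cX e8T s (vec chevE8 8 i) = 1)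
    {v : chevE8.Idx → ZMod 3} (hv : act x v = v) : act g v = v := by
  have h1 : actK (eK x) (ext v) = ext v := by rw [actK_ext, hv]
  have h2 : actK t (actK z⁻¹ (ext v)) = actK z⁻¹ (ext v) := by
    have h3 : t * z⁻¹ = z⁻¹ * eK x := by rw [hx]; group
    rw [← actK_mul, h3, actK_mul, h1]
  have h4 := tor_fix hs ht h h2
  apply ext_injective
  rw [← actK_ext, hg, actK_mul, actK_mul, h4, actK_inv]

/-! ### functionals -/

/-- the roots -/
theorem root_cases (i : Fin chevE8.nroots) : ∃ r ∈ R8, vec chevE8 8 i = toR r ∨ vec chevE8 8 i = - toR r := by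
  have h1 : IsRoot cs8 e8T.isCartan (vec chevE8 8 (i : ℕ)) := (isRoot_iff e8T cs8 _).2 ⟨i, i.2, rfl⟩
  rcases h1.pos_or_neg with h2 | h2
  · obtain ⟨r, hr, e⟩ := mem_pos_iff.1 ⟨h1, h2⟩
    exact ⟨r, hr, Or.inl e⟩
  · obtain ⟨r, hr, e⟩ := mem_pos_iff.1 ⟨h1.neg, neg_nonneg.2 h2⟩
    exact ⟨r, hr, Or.inr (by rw [← e, _root_.neg_neg])⟩

theorem fz_neg (c : List ℤ) (x : Fin 8 → ℤ) : fz c (-x) = - fz c x := by
  unfold fz
  simp only [Pi.neg_apply, mul_neg, Finset.sum_neg_distrib]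

theorem fz_toR (Y : List ℕ) {r : List ℕ} (hr : r ∈ R8) : fz (YZ Y) (toR r) = ((dotN r Y : ℕ) : ℤ) := by
  rw [dotN_eq 8 r Y (len8 r hr)]
  unfold fz toR
  push_cast
  refine Finset.sum_congr rfl fun i _ => ?_
  rw [YZ_getD, mul_comm]

theorem isMC_fz {ζ : KK} (hζ0 : ζ ≠ 0) (c : List ℤ) : IsMC fun a : Fin 8 → ℤ => ζ ^ fz c a := ⟨by
  show ζ ^ fz c 0 = 1
  have : fz c 0 = 0 := by unfold fz; simp
  rw [this, zpow_zero], fun a b => by
  show ζ ^ fz c (a + b) = _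
  rw [fz_add, zpow_add₀ hζ0]⟩

theorem cX_fz {ζ : KK} (hζ : IsPrimitiveRoot ζ 40) {t : GK} (htT : t ∈ TT chevE8 KK) {Y : List ℕ}
    (hv : ∀ i, cX e8T t (sr i) = ζ ^ (vecL 40 Y i).val) (a : Fin 8 → ℤ) : cX e8T t a = ζ ^ fz (YZ Y) a := by
  refine (isMC_cX e8T htT).ext (isMC_fz (hζ.ne_zero (by norm_num)) _) (fun i => ?_) a
  rw [hv, fz_sr, YZ_getD, zpow_natCast]
  unfold vecL
  rw [ZMod.val_natCast]
  exact pow_mod_orderOf' hζ _

/-- the twist -/
theorem twist {ζ : KK} (hζ : IsPrimitiveRoot ζ 40) {t : GK} {Y w : List ℕ} (hYl : (YZ Y).length = 8)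
    (hX : ∀ a, cX e8T t a = ζ ^ fz (YZ Y) a) (hw : ∀ i ∈ w, i < 8)
    (hwY : ∀ i : Fin 8, ((actW w (YZ Y)).getD i 0 - 3 * (YZ Y).getD i 0) % (40 : ℤ) = 0) (a : Fin 8 → ℤ) :
    cX e8T t (rep cs8 e8T.isCartan (word w) a) = cX e8T t a ^ 3 ^ 1 := by
  have hζ0 : ζ ≠ 0 := hζ.ne_zero (by norm_num)
  have h31 : (3 : ℕ) ^ 1 = 3 := rfl
  rw [h31, hX, hX]
  have hw3 : (40 : ℤ) ∣ fz (YZ Y) (rep cs8 e8T.isCartan (word w) a) - 3 * fz (YZ Y) a := by
    rw [← fz_actW w hw hYl]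
    exact fz_dvd (fun i => Int.dvd_of_emod_eq_zero (hwY i)) a
  obtain ⟨m, hm⟩ := hw3
  have h1 : fz (YZ Y) (rep cs8 e8T.isCartan (word w) a) = fz (YZ Y) a * 3 + ((40 : ℕ) : ℤ) * m := by
    push_cast
    linarith
  rw [h1, zpow_add₀ hζ0, _root_.zpow_mul, _root_.zpow_mul, zpow_natCast ζ 40, hζ.pow_eq_one, _root_.one_zpow, mul_one]
  exact zpow_ofNat _ 3

/-- the checks -/
structure Chk (Y Z w : List ℕ) : Prop where
  lenY : (YZ Y).length = 8
  lenZ : (YZ Z).length = 8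
  w8 : ∀ i ∈ w, i < 8
  wY : ∀ i : Fin 8, ((actW w (YZ Y)).getD i 0 - 3 * (YZ Y).getD i 0) % (40 : ℤ) = 0
  wZ : ∀ i : Fin 8, ((actW w (YZ Z)).getD i 0 - 3 * (YZ Z).getD i 0) % (40 : ℤ) = 0
  roots : ∀ r ∈ R8, dotN r Y % 40 = 0 → dotN r Z % 40 = 0
  two : ∀ i : Fin 8, (2 * Z.getD i 0) % 40 = 0
  ne_one : ∃ i : Fin 8, Z.getD i 0 % 40 ≠ 0
  ne_pow : ∃ i : Fin 8, Z.getD i 0 % 40 ≠ (20 * Y.getD i 0) % 40

theorem torus_of {Y Z w : List ℕ} (hc : Chk Y Z w) {ζ : KK} (hζ : IsPrimitiveRoot ζ 40) {x : G8} (hx : x ^ 40 = 1)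
    (hT : TorZ ζ x 40 (vecL 40 Y)) :
    ∃ g : G8, g ≠ 1 ∧ g * g = 1 ∧ g ≠ x ^ 20 ∧ g * x = x * g ∧ ∀ v, act x v = v → act g v = v := by
  classical
  obtain ⟨z, t, hz, htT, hv⟩ := hT
  have hζ0 : ζ ≠ 0 := hζ.ne_zero (by norm_num)
  have hkch : CharP KK 3 := charP_of_injective_algebraMap (algebraMap (ZMod 3) KK).injective 3
  have hlf : LocFin KK := locFin_of_isAlgebraic 3 KK
  have hX := cX_fz hζ htT hv
  obtain ⟨s, hs, hsX⟩ := exists_cX e8T invC_E8 one_ne_zero (isMC_fz hζ0 (YZ Z)) (fun i => ⟨_, pow_one _⟩)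
  obtain ⟨z1, g, h1, h2⟩ := exists_conj (F0 := ZMod 3) e8T cs8 hlf frm8 (algebraMap (ZMod 3) KK) (p := 3)
    (n := 1) (by rw [Nat.card_eq_fintype_card, ZMod.card]; rfl) invC_E8 one_pos (N := 40) (by norm_num)
    (by norm_num) hx hz htT (word w) (twist hζ hc.lenY hX hc.w8 hc.wY) hs
    (twist hζ hc.lenZ hsX hc.w8 hc.wZ)
  have hinj : Function.Injective eK := emb_injective e8T.inList (algebraMap (ZMod 3) KK)
  have hone : eK 1 = 1 := map_one (emb e8T.inList (algebraMap (ZMod 3) KK))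
  have hmul : ∀ a b : G8, eK (a * b) = eK a * eK b := map_mul (emb e8T.inList (algebraMap (ZMod 3) KK))
  have hpow : ∀ (a : G8) (n : ℕ), eK (a ^ n) = eK a ^ n := map_pow (emb e8T.inList (algebraMap (ZMod 3) KK))
  have h1' : eK x = z1 * t * z1⁻¹ := h1
  have h2' : eK g = z1 * s * z1⁻¹ := h2
  have hss : ∀ a : ℕ, ζ ^ ((a : ℕ) : ℤ) = 1 ↔ a % 40 = 0 := by
    intro a
    rw [zpow_natCast, hζ.pow_eq_one_iff_dvd]
    exact ⟨Nat.mod_eq_zero_of_dvd, Nat.dvd_of_mod_eq_zero⟩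
  refine ⟨g, ?_, ?_, ?_, ?_, fun v hv' => fix_of hs htT h1' h2' ?_ hv'⟩
  · intro h0
    rw [h0, hone] at h2'
    have h3 : s = 1 := by
      have : s = z1⁻¹ * (z1 * s * z1⁻¹) * z1 := by group
      rw [this, ← h2']
      group
    obtain ⟨i, hi⟩ := hc.ne_one
    apply hi
    rw [← hss, ← YZ_getD, ← fz_sr, ← hsX, h3, cX_one]
  · apply hinj
    rw [hmul, h2', hone]
    have h3 : s * s = 1 := by
      refine cX_inj e8T (mul_mem hs hs) (one_mem _) fun i => ?_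
      rw [cX_mul e8T hs hs, cX_one, hsX]
      have h4 := (hss _).2 (hc.two i)
      rw [← zpow_add₀ hζ0, fz_sr, YZ_getD, ← two_mul]
      exact_mod_cast h4
    calc z1 * s * z1⁻¹ * (z1 * s * z1⁻¹) = z1 * (s * s) * z1⁻¹ := by group
      _ = 1 := by rw [h3]; group
  · intro h0
    rw [h0, hpow, h1'] at h2'
    have h3 : s = t ^ 20 := by
      have e1 : (z1 * t * z1⁻¹) ^ 20 = z1 * t ^ 20 * z1⁻¹ := conj_pow
      rw [e1] at h2'
      exact (mul_left_cancel (mul_right_cancel h2')).symm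
    obtain ⟨i, hi⟩ := hc.ne_pow
    apply hi
    have h4 : cX e8T s (sr i) = cX e8T t (sr i) ^ 20 := by rw [h3, cX_pow e8T htT]
    rw [hsX, hX, fz_sr, fz_sr, YZ_getD, YZ_getD, zpow_natCast, zpow_natCast, ← pow_mul] at h4
    have h5 := hζ.pow_inj (i := Z.getD i 0 % 40) (j := (Y.getD i 0 * 20) % 40) (Nat.mod_lt _ (by norm_num))
      (Nat.mod_lt _ (by norm_num)) (by rw [pow_mod_orderOf' hζ, pow_mod_orderOf' hζ, h4])
    rw [h5, mul_comm]
  · apply hinj
    rw [hmul, hmul, h1', h2']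
    have h3 : s * t = t * s := Cfsg.Agent.H720.TorusReal.TT_comm e8T hs htT
    calc z1 * s * z1⁻¹ * (z1 * t * z1⁻¹) = z1 * (s * t) * z1⁻¹ := by group
      _ = z1 * (t * s) * z1⁻¹ := by rw [h3]
      _ = _ := by group
  · intro i hi
    obtain ⟨r, hr, h3⟩ := root_cases i
    have h4 : cX e8T t (toR r) = 1 := by
      rcases h3 with h3 | h3
      · rw [← h3, hi]
      · have h5 : toR r = - vec chevE8 8 i := by rw [h3, _root_.neg_neg]
        rw [h5, (isMC_cX e8T htT).neg, hi, inv_one]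
    rw [hX, fz_toR Y hr, hss] at h4
    have h5 : cX e8T s (toR r) = 1 := by
      rw [hsX, fz_toR Z hr, hss]
      exact hc.roots r hr h4
    rcases h3 with h3 | h3
    · rw [h3, h5]
    · rw [h3, (isMC_cX e8T hs).neg, h5, inv_one]

/-! ### the certificates -/

/-- the word for the first class -/
def w1 : List ℕ := [7, 5, 4, 3, 2, 1, 3, 4, 5, 6, 0, 2, 3, 4, 5, 1, 3, 4, 2, 3, 0, 2, 1, 3, 4, 5, 6, 7]
/-- the word for the second class -/
def w2 : List ℕ := [6, 7, 0, 2, 3, 4, 5, 1, 3, 4, 2, 3, 0, 2, 1, 3, 4, 5, 6, 5, 4, 3, 2, 1, 3, 4, 5, 0, 2, 3, 4, 1,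
  3, 2, 0]
/-- the word for the fourth class -/
def w4 : List ℕ := [4, 5, 3, 4, 2, 3, 0, 2, 1, 3, 4, 5, 6, 7, 2, 3, 0, 2, 1, 3, 4, 5, 6, 3, 2, 1, 3, 4, 5, 0, 2, 3,
  4, 1, 3, 2, 0]

theorem chk1 : Chk Y1 [0, 0, 0, 0, 0, 0, 20, 20] w1 where
  lenY := by decide +kernel
  lenZ := by decide +kernel
  w8 := by decide +kernel
  wY := by decide +kernel
  wZ := by decide +kernel
  roots := by decide +kernel
  two := by decide +kernel
  ne_one := by decide +kernel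
  ne_pow := by decide +kernel

theorem chk2 : Chk Y2 [20, 0, 0, 0, 0, 0, 0, 0] w2 where
  lenY := by decide +kernel
  lenZ := by decide +kernel
  w8 := by decide +kernel
  wY := by decide +kernel
  wZ := by decide +kernel
  roots := by decide +kernel
  two := by decide +kernel
  ne_one := by decide +kernel
  ne_pow := by decide +kernel

theorem chk4 : Chk Y4 [0, 0, 0, 20, 0, 0, 20, 0] w4 where
  lenY := by decide +kernel
  lenZ := by decide +kernel
  w8 := by decide +kernel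
  wY := by decide +kernel
  wZ := by decide +kernel
  roots := by decide +kernel
  two := by decide +kernel
  ne_one := by decide +kernel
  ne_pow := by decide +kernel

/-- **TORUS.** -/
theorem torus : TorusStmt := by
  intro ζ hζ x hx Y hY hT
  simp only [List.mem_cons, List.not_mem_nil, or_false] at hY
  rcases hY with rfl | rfl | rfl
  · exact torus_of chk1 hζ hx hT
  · exact torus_of chk2 hζ hx hT
  · exact torus_of chk4 hζ hx hT

end E8

end Cfsg.Agent.H72.E8T
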